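import Mathlib.RingTheory.Smooth.IntegralClosure
import Groth.Agent.QCart13.Alg

/-!
# Integral elements in smooth base changes
-/

set_option autoImplicit false

noncomputable section

universe u w w'

open TensorProduct

namespace Groth.Agent.IntClosureEt13

/-- Integrality along a precomposition with an isomorphism of rings. -/
theorem isIntegralElem_comp_equiv {R R' B : Type*} [CommRing R] [CommRing R'] [CommRing B] (f : R →+* B)
    (e : R' ≃+* R) (x : B) : (f.comp e.toRingHom).IsIntegralElem x ↔ f.IsIntegralElem x := by
  constructor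
  · rintro ⟨p, hp, hpx⟩
    refine ⟨p.map e.toRingHom, hp.map _, ?_⟩
    rw [Polynomial.eval₂_map]
    exact hpx
  · rintro ⟨p, hp, hpx⟩
    refine ⟨p.map e.symm.toRingHom, hp.map _, ?_⟩
    rw [Polynomial.eval₂_map]
    convert hpx using 2
    ext r
    simp

variable {R : Type u} {S : Type u} {B : Type w} {C : Type w} [CommRing R] [CommRing S] [Algebra R S] [CommRing B]
  [Algebra R B] [CommRing C] [Algebra S C]

/-- An integral element of a smooth base change comes from the base change of the integral elements. -/
theorem exists_preimage_of_isIntegral [Algebra.Smooth R S] (Ψ : S ⊗[R] B →ₐ[S] C) (hΨ : Function.Bijective Ψ) {y : C}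
    (hy : IsIntegral S y) :
    ∃ z : S ⊗[R] integralClosure R B, Ψ (Algebra.TensorProduct.map (.id S S) (integralClosure R B).val z) = y := by
  let e := AlgEquiv.ofBijective Ψ hΨ
  have h1 : IsIntegral S (e.symm y) := hy.map e.symm
  obtain ⟨z, hz⟩ := (TensorProduct.toIntegralClosure_bijective_of_smooth (R := R) (S := S) (B := B)).2 ⟨e.symm y, h1⟩
  refine ⟨z, ?_⟩
  have h2 := congrArg (Subtype.val) hz
  exact (congrArg e h2).trans (e.apply_symm_apply y)

section descent

variable {ι : Type} {D : ι → Type u} [∀ i, CommRing (D i)] [∀ i, Algebra R (D i)] [∀ i, Algebra.Smooth R (D i)]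
  {E : ι → Type w} [∀ i, CommRing (E i)] [∀ i, Algebra (D i) (E i)]

/-- Integrality descends along a jointly surjective smooth family. -/
theorem isIntegral_of_local (hD : QCart13.JointlySurj D R) (Ψ : ∀ i, D i ⊗[R] B →ₐ[D i] E i)
    (hΨ : ∀ i, Function.Bijective (Ψ i)) {x : B} (hx : ∀ i, IsIntegral (D i) (Ψ i (1 ⊗ₜ x))) : IsIntegral R x := by
  let K : Submodule R B := Subalgebra.toSubmodule (integralClosure R B)
  suffices h : K.mkQ x = 0 from (Submodule.Quotient.mk_eq_zero K).1 h
  refine QCart13.eq_zero_of_forall_tmul hD _ fun i => ?_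
  obtain ⟨z, hz⟩ := exists_preimage_of_isIntegral (Ψ i) (hΨ i) (hx i)
  have hz' := (hΨ i).1 hz
  have key : ∀ z : D i ⊗[R] integralClosure R B,
      K.mkQ.lTensor (D i) (Algebra.TensorProduct.map (.id (D i) (D i)) (integralClosure R B).val z) = 0 := by
    intro z
    induction z using TensorProduct.induction_on with
    | zero => simp
    | add a b ha hb => rw [map_add, map_add, ha, hb, add_zero]
    | tmul a b =>
      rw [Algebra.TensorProduct.map_tmul, LinearMap.lTensor_tmul,
        show K.mkQ ((integralClosure R B).val b) = 0 from (Submodule.Quotient.mk_eq_zero K).2 b.2,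
        TensorProduct.tmul_zero]
  have h1 := key z
  rw [hz', LinearMap.lTensor_tmul] at h1
  exact h1

end descent

end Groth.Agent.IntClosureEt13

end
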