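import Groth.Agent.IntClosureEt13.Alg
import Groth.Agent.QCart13.Sub
import Groth.Agent.QCart13.Crit
import Mathlib.AlgebraicGeometry.Morphisms.Etale

/-!
# The integral closure of the structure sheaf in a quasi-coherent algebra
-/

set_option autoImplicit false
set_option backward.isDefEq.respectTransparency false
set_option backward.isDefEq.respectTransparency.types false

noncomputable section

universe u

open CategoryTheory CategoryTheory.Limits AlgebraicGeometry Opposite AlgSp TensorProduct
open Groth.Agent.QCart13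

namespace Groth.Agent.IntClosureEt13

variable {S : Scheme.{u}} {X : Sp S} {A : EtSh X CommRingCat.{u + 1}} (φ : OEt X ⟶ A)

/-- The underlying module of an algebra. -/
abbrev modA : ModEt X :=
  (SheafOfModules.restrictScalars
      ((sheafCompose (etTop X) (forget₂ CommRingCat.{u + 1} RingCat.{u + 1})).map φ)).obj
    (SheafOfModules.unit ((sheafCompose (etTop X) (forget₂ CommRingCat.{u + 1} RingCat.{u + 1})).obj A))

/-- The functions as elements of the structure sheaf. -/
def liftFn (E : EtOver X) : Fn E ≃+* (OEt X).obj.obj (op E) := ULift.ringEquiv.symm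

/-- The structure map on an object. -/
def str (E : EtOver X) : Fn E →+* A.obj.obj (op E) := (φ.hom.app (op E)).hom.comp (liftFn E).toRingHom

variable (A) in
/-- Restriction in the algebra. -/
def rA {E E' : EtOver X} (g : E' ⟶ E) : A.obj.obj (op E) →+* A.obj.obj (op E') := (A.obj.map g.op).hom

theorem rA_comp {E E' E'' : EtOver X} (h : E'' ⟶ E') (g : E' ⟶ E) (x : A.obj.obj (op E)) :
    rA A (h ≫ g) x = rA A h (rA A g x) := by
  change (A.obj.map (h ≫ g).op).hom x = _
  rw [op_comp, Functor.map_comp]
  rfl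

theorem rA_id {E : EtOver X} (x : A.obj.obj (op E)) : rA A (𝟙 E) x = x := by
  change (A.obj.map (𝟙 (op E))).hom x = x
  rw [CategoryTheory.Functor.map_id]
  rfl

theorem rA_str {E E' : EtOver X} (g : E' ⟶ E) (a : Fn E) : rA A g (str φ E a) = str φ E' (rmap g a) :=
  (congrArg (fun k => k.hom (liftFn E a)) (φ.hom.naturality g.op)).symm

/-- The sections of the algebra. -/
def Sect (_φ : OEt X ⟶ A) (E : EtOver X) : Type (u + 1) := A.obj.obj (op E)

instance (E : EtOver X) : CommRing (Sect φ E) := inferInstanceAs (CommRing (A.obj.obj (op E)))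

instance algSect (E : EtOver X) : Algebra (Fn E) (Sect φ E) := (str φ E).toAlgebra

instance algSectT {E : EtOver X} (T : Over E) : Algebra (Fn E) (Sect φ T.left) :=
  ((str φ T.left).comp (rmap T.hom)).toAlgebra

instance towerSectT {E : EtOver X} (T : Over E) : IsScalarTower (Fn E) (Fn T.left) (Sect φ T.left) :=
  IsScalarTower.of_algebraMap_eq fun _ => rfl

/-- The sections of the underlying module. -/
def σ (E : EtOver X) : sectModEt (modA φ) E ≃ₗ[Fn E] Sect φ E where
  toFun x := x
  invFun x := x
  map_add' _ _ := rfl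
  map_smul' _ _ := rfl
  left_inv _ := rfl
  right_inv _ := rfl

/-- Restriction as a map of algebras. -/
def ρ {E : EtOver X} (T : Over E) : Sect φ E →ₐ[Fn E] Sect φ T.left :=
  { toRingHom := rA A T.hom
    commutes' := fun a => rA_str φ T.hom a }

/-- The comparison with the base change. -/
def Ψ {E : EtOver X} (T : Over E) : Fn T.left ⊗[Fn E] Sect φ E →ₐ[Fn T.left] Sect φ T.left :=
  Algebra.TensorProduct.lift (Algebra.ofId (Fn T.left) (Sect φ T.left)) (ρ φ T) fun _ _ => mul_comm _ _

theorem Ψ_tmul {E : EtOver X} (T : Over E) (a : Fn T.left) (x : Sect φ E) :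
    Ψ φ T (a ⊗ₜ x) = str φ T.left a * rA A T.hom x :=
  Algebra.TensorProduct.lift_tmul _ _ _ a x

theorem Ψ_eq {E : EtOver X} (T : Over E) (z : Fn T.left ⊗[Fn E] sectModEt (modA φ) E) :
    Ψ φ T ((σ φ E).toLinearMap.lTensor (Fn T.left) z) = σ φ T.left (bcMor (modA φ) T z) := by
  induction z using TensorProduct.induction_on with
  | zero => simp
  | add x y hx hy => simp only [map_add, hx, hy]
  | tmul a x =>
    rw [LinearMap.lTensor_tmul, Ψ_tmul, LinearMap.liftBaseChange_tmul, res₀_apply, map_smul]
    rfl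

variable [(modA φ).IsQuasicoherent]

theorem bijective_Ψ {E : EtOver X} (hE : Aff E) (T : Over E) (hT : Aff T.left) : Function.Bijective (Ψ φ T) := by
  have h := (σ φ T.left).bijective.comp (bijective_bcMor (cart_of_isQuasicoherent (modA φ) hE) T hT)
  have h2 : Function.Bijective fun z => Ψ φ T ((σ φ E).toLinearMap.lTensor (Fn T.left) z) := by
    rw [funext (Ψ_eq φ T)]
    exact h
  exact (Function.Bijective.of_comp_iff _ (LinearEquiv.lTensor (Fn T.left) (σ φ E)).bijective).1 h2

omit [(modA φ).IsQuasicoherent] in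
theorem smooth_over {E : EtOver X} (hE : Aff E) {T : Over E} (hT : Aff T.left) :
    Algebra.Smooth (Fn E) (Fn T.left) := by
  have : IsAffine T.left.obj.left.left := hT
  have : IsAffine E.obj.left.left := hE
  have he : Etale T.hom.hom.left.left := EtOver.etale_left T.hom
  have h1 : Algebra.Etale (Fn E) (Fn T.left) := (HasRingHomProperty.iff_of_isAffine (P := @Etale)).1 he
  infer_instance

/-- A section integral on every affine object over it. -/
def IntSec (W : EtOver X) (x : A.obj.obj (op W)) : Prop :=
  ∀ (V : EtOver X) (g : V ⟶ W), Aff V → IsIntegral (Fn V) (show Sect φ V from rA A g x)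

omit [(modA φ).IsQuasicoherent] in
theorem isIntegral_resT {E : EtOver X} (T : Over E) {x : Sect φ E} (hx : IsIntegral (Fn E) x) :
    IsIntegral (Fn T.left) (ρ φ T x) :=
  (hx.map (ρ φ T)).tower_top

omit [(modA φ).IsQuasicoherent] in
theorem isIntegral_res {E E' : EtOver X} (g : E' ⟶ E) {x : Sect φ E} (hx : IsIntegral (Fn E) x) :
    IsIntegral (Fn E') (show Sect φ E' from rA A g x) :=
  isIntegral_resT φ (Over.mk g) hx

omit [(modA φ).IsQuasicoherent] in
theorem intSec_iff {E : EtOver X} (hE : Aff E) (x : Sect φ E) : IntSec φ E x ↔ IsIntegral (Fn E) x := by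
  refine ⟨fun h => ?_, fun h V g _ => isIntegral_res φ g h⟩
  have h1 := h E (𝟙 E) hE
  rwa [rA_id] at h1

theorem isIntegral_of_cov {E : EtOver X} (hE : Aff E) (c : Cov E) (x : Sect φ E)
    (h : ∀ i, IsIntegral (Fn (c.T i).left) (show Sect φ (c.T i).left from rA A (c.T i).hom x)) :
    IsIntegral (Fn E) x := by
  haveI : ∀ i, Algebra.Smooth (Fn E) (Fn (c.T i).left) := fun i => smooth_over hE (c.aff i)
  refine isIntegral_of_local (D := fun i => Fn (c.T i).left) (E := fun i => Sect φ (c.T i).left)
    (c.jointlySurj hE) (fun i => Ψ φ (c.T i)) (fun i => bijective_Ψ φ hE (c.T i) (c.aff i)) fun i => ?_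
  rw [Ψ_tmul, map_one, one_mul]
  exact h i

theorem intSec_of_cover {W : EtOver X} {R : Sieve W} (hR : R ∈ etTop X W) (x : A.obj.obj (op W))
    (h : ∀ ⦃V : EtOver X⦄ (f : V ⟶ W), R f → IntSec φ V (rA A f x)) : IntSec φ W x := fun V g hV => by
  obtain ⟨c, hc⟩ := exists_cov hV ((etTop X).pullback_stable g hR)
  refine isIntegral_of_cov φ hV c _ fun i => ?_
  have h1 := h ((c.T i).hom ≫ g) (hc i) (c.T i).left (𝟙 _) (c.aff i)
  rwa [rA_id, rA_comp] at h1

/-- The integral sections. -/
def intSub (W : EtOver X) : Subring (A.obj.obj (op W)) where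
  carrier := {x | IntSec φ W x}
  zero_mem' V g hV := by
    rw [map_zero]
    exact isIntegral_zero
  one_mem' V g hV := by
    rw [map_one]
    exact isIntegral_one
  add_mem' hx hy V g hV := by
    rw [map_add]
    exact (hx V g hV).add (hy V g hV)
  neg_mem' hx V g hV := by
    rw [map_neg]
    exact (hx V g hV).neg
  mul_mem' hx hy V g hV := by
    rw [map_mul]
    exact (hx V g hV).mul (hy V g hV)

omit [(modA φ).IsQuasicoherent] in
theorem intSub_map {W W' : EtOver X} (f : W' ⟶ W) {x : A.obj.obj (op W)} (hx : x ∈ intSub φ W) :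
    rA A f x ∈ intSub φ W' := fun V g hV => by
  rw [← rA_comp]
  exact hx V (g ≫ f) hV

/-- The presheaf of integral sections. -/
def closurePre : (EtOver X)ᵒᵖ ⥤ CommRingCat.{u + 1} where
  obj W := CommRingCat.of (intSub φ W.unop)
  map {W W'} f := CommRingCat.ofHom
    (((rA A f.unop).comp (intSub φ W.unop).subtype).codRestrict (intSub φ W'.unop) fun x => intSub_map φ f.unop x.2)
  map_id W := CommRingCat.hom_ext (RingHom.ext fun x => Subtype.ext (rA_id x.1))
  map_comp {W W' W''} f g := CommRingCat.hom_ext (RingHom.ext fun x => Subtype.ext (rA_comp g.unop f.unop x.1))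

theorem isSheaf_closurePre : Presheaf.IsSheaf (etTop X) (closurePre φ) := by
  rw [Presheaf.isSheaf_iff_isSheaf_forget (etTop X) _ (CategoryTheory.forget CommRingCat.{u + 1}),
    isSheaf_iff_isSheaf_of_type]
  intro W T hT x hx
  have hM := ((isSheaf_iff_isSheaf_of_type _ _).1
    ((Presheaf.isSheaf_iff_isSheaf_forget (etTop X) A.obj (CategoryTheory.forget CommRingCat.{u + 1})).1
      A.property)) T hT
  let y : Presieve.FamilyOfElements (A.obj ⋙ CategoryTheory.forget CommRingCat.{u + 1}) T.arrows :=
    fun V f hf => (x f hf).1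
  have hy : y.Compatible := fun V₁ V₂ Z g₁ g₂ f₁ f₂ h₁ h₂ e => congrArg Subtype.val (hx g₁ g₂ h₁ h₂ e)
  obtain ⟨t, ht, -⟩ := hM y hy
  have htm : IntSec φ W t := intSec_of_cover φ hT t fun V f hf => by
    rw [show rA A f t = (x f hf).1 from ht f hf]
    exact (x f hf).2
  refine ⟨⟨t, htm⟩, fun V f hf => Subtype.ext (ht f hf), fun z hz => Subtype.ext ?_⟩
  exact hM.isSeparatedFor y z.1 t (fun V f hf => congrArg Subtype.val (hz f hf)) ht

/-- The sheaf of integral sections. -/
def closure : EtSh X CommRingCat.{u + 1} := ⟨closurePre φ, isSheaf_closurePre φ⟩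

/-- Its inclusion. -/
def incl : closure φ ⟶ A :=
  ObjectProperty.homMk
    { app := fun W => CommRingCat.ofHom (intSub φ W.unop).subtype
      naturality := fun _ _ _ => rfl }

omit [(modA φ).IsQuasicoherent] in
theorem isIntegralElem_iff (E : EtOver X) (x : A.obj.obj (op E)) :
    (φ.hom.app (op E)).hom.IsIntegralElem x ↔ IsIntegral (Fn E) (show Sect φ E from x) :=
  (isIntegralElem_comp_equiv (φ.hom.app (op E)).hom (liftFn E) x).symm

omit [(modA φ).IsQuasicoherent] in
theorem mem_range_app (E : EtOver X) (r : (OEt X).obj.obj (op E)) :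
    (φ.hom.app (op E)).hom r ∈ intSub φ E := fun V g _ => by
  have h : rA A g ((φ.hom.app (op E)).hom r) = str φ V (rmap g ((liftFn E).symm r)) := by
    refine Eq.trans ?_ (rA_str φ g _)
    refine congrArg (rA A g) ?_
    exact (congrArg (φ.hom.app (op E)).hom ((liftFn E).apply_symm_apply r)).symm
  rw [h]
  exact isIntegral_algebraMap (R := Fn V) (A := Sect φ V)

/-- The structure map of the integral sections. -/
def toClosure : OEt X ⟶ closure φ :=
  ObjectProperty.homMk
    { app := fun W => CommRingCat.ofHom ((φ.hom.app W).hom.codRestrict (intSub φ W.unop) (mem_range_app φ W.unop))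
      naturality := fun W W' f => CommRingCat.hom_ext (RingHom.ext fun r =>
        Subtype.ext (congrArg (fun k => k.hom r) (φ.hom.naturality f))) }

theorem toClosure_incl : toClosure φ ≫ incl φ = φ :=
  ObjectProperty.hom_ext _ (by ext W r; rfl)

/-- The inclusion of underlying modules. -/
def inclMod : modA (toClosure φ) ⟶ modA φ where
  val :=
    PresheafOfModules.homMk
      { app := fun W => AddCommGrpCat.ofHom (intSub φ W.unop).subtype.toAddMonoidHom
        naturality := fun _ _ _ => rfl }
      fun _ _ _ => rfl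

theorem mono_inclMod : Mono (inclMod φ) := ⟨fun a b h =>
  SheafOfModules.hom_ext (PresheafOfModules.hom_ext fun W => ModuleCat.hom_ext (LinearMap.ext fun x =>
    Subtype.ext (congrArg (fun k => k.val.app W x) h)))⟩

theorem isQuasicoherent_closure : (modA (toClosure φ)).IsQuasicoherent := by
  haveI := mono_inclMod φ
  refine isQuasicoherent_of_cart _ fun E hE => cart_of_mono (inclMod φ) hE
    (cart_of_isQuasicoherent (modA φ) hE) fun T hT s => ⟨⊤, (etTop X).top_mem _, fun T' f hT' _ => ?_⟩
  let K := modA (toClosure φ)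
  haveI := smooth_over hE hT'
  let y : Sect φ T'.left := σ φ T'.left (appL (inclMod φ) T'.left (res K f.left s))
  have hy : IsIntegral (Fn T'.left) y := (intSec_iff φ hT' y).1 (res K f.left s : closurePre φ |>.obj (op T'.left)).2
  obtain ⟨z, hz⟩ := exists_preimage_of_isIntegral (Ψ φ T') (bijective_Ψ φ hE T' hT') hy
  let j : integralClosure (Fn E) (Sect φ E) →ₗ[Fn E] sectModEt K E :=
    { toFun := fun b => (⟨b.1, (intSec_iff φ hE b.1).2 b.2⟩ : intSub φ E)
      map_add' := fun _ _ => rfl
      map_smul' := fun c b => Subtype.ext (show (c • b.1 : Sect φ E) = _ from rfl) }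
  refine ⟨j.lTensor (Fn T'.left) z, injective_appL (inclMod φ) _ ((σ φ T'.left).injective ?_)⟩
  change σ φ T'.left (appL (inclMod φ) T'.left (bcMor K T' (j.lTensor (Fn T'.left) z))) = y
  rw [appL_bcMor, ← Ψ_eq, ← hz, ← LinearMap.lTensor_comp_apply, ← LinearMap.lTensor_comp_apply]
  refine congrArg (Ψ φ T') ?_
  clear hz
  induction z using TensorProduct.induction_on with
  | zero => simp
  | tmul a b => rfl
  | add p q hp hq => simp only [map_add, hp, hq]

/-- The integral closure with its characterization. -/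
theorem exists_closure :
    ∃ (A' : EtSh X CommRingCat.{u + 1}) (ι : A' ⟶ A) (φ' : OEt X ⟶ A'),
      φ' ≫ ι = φ ∧ (∀ E : EtOver X, Function.Injective (ι.hom.app (op E))) ∧
      (∀ E : EtOver X, IsAffine E.obj.left.left → ∀ x : A.obj.obj (op E),
        x ∈ Set.range (ι.hom.app (op E)) ↔ (φ.hom.app (op E)).hom.IsIntegralElem x) ∧
      (modA φ').IsQuasicoherent := by
  refine ⟨closure φ, incl φ, toClosure φ, toClosure_incl φ, fun E x y h => Subtype.ext h, fun E hE x => ?_,
    isQuasicoherent_closure φ⟩
  refine Iff.trans ⟨fun ⟨y, hy⟩ => hy ▸ y.2, fun h => ⟨⟨x, h⟩, rfl⟩⟩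
    ((intSec_iff φ hE (show Sect φ E from x)).trans (isIntegralElem_iff φ E x).symm)

end Groth.Agent.IntClosureEt13

end
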